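import Mathlib

/-! The algebra corepresenting power-series-valued points. -/

universe u
set_option linter.style.haveILetI false

namespace Groth.Agent.H9Arcs

open MvPowerSeries

variable (k : Type u) [Field k] (n : ℕ) (R : Type u) [CommRing R] [Algebra (MvPowerSeries (Fin n) k) R]

/-- Generators: coefficients of the universal series of each element. -/
abbrev Gen : Type u := R × (Fin n →₀ ℕ)

/-- The generic series of an element. -/
noncomputable def gen (r : R) : MvPowerSeries (Fin n) (MvPolynomial (Gen n R) k) :=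
  fun m => MvPolynomial.X (r, m)

theorem coeff_gen (r : R) (m : Fin n →₀ ℕ) : coeff m (gen k n R r) = MvPolynomial.X (r, m) := rfl

/-- The defining relations. -/
noncomputable def rels : Set (MvPolynomial (Gen n R) k) :=
  {p | ∃ (r r' : R) (m : Fin n →₀ ℕ), p = coeff m (gen k n R (r + r') - (gen k n R r + gen k n R r'))} ∪
  {p | ∃ (r r' : R) (m : Fin n →₀ ℕ), p = coeff m (gen k n R (r * r') - gen k n R r * gen k n R r')} ∪
  {p | ∃ (a : MvPowerSeries (Fin n) k) (m : Fin n →₀ ℕ),
    p = coeff m (gen k n R (algebraMap _ R a) - MvPowerSeries.map (algebraMap k (MvPolynomial (Gen n R) k)) a)}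

abbrev P : Type u := MvPolynomial (Gen n R) k ⧸ Ideal.span (rels k n R)

noncomputable abbrev π : MvPolynomial (Gen n R) k →+* P k n R := Ideal.Quotient.mk _

noncomputable def uFun (r : R) : MvPowerSeries (Fin n) (P k n R) := MvPowerSeries.map (π k n R) (gen k n R r)

theorem map_eq_of_mem {x y : MvPowerSeries (Fin n) (MvPolynomial (Gen n R) k)}
    (h : ∀ m, coeff m (x - y) ∈ rels k n R) : MvPowerSeries.map (π k n R) x = MvPowerSeries.map (π k n R) y := by
  ext m
  rw [coeff_map, coeff_map]
  refine Ideal.Quotient.eq.2 (Ideal.subset_span ?_)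
  simpa using h m

theorem uFun_add (r r' : R) : uFun k n R (r + r') = uFun k n R r + uFun k n R r' := by
  rw [uFun, uFun, uFun, ← map_add]
  exact map_eq_of_mem k n R fun m => Or.inl (Or.inl ⟨r, r', m, rfl⟩)

theorem uFun_mul (r r' : R) : uFun k n R (r * r') = uFun k n R r * uFun k n R r' := by
  rw [uFun, uFun, uFun, ← map_mul]
  exact map_eq_of_mem k n R fun m => Or.inl (Or.inr ⟨r, r', m, rfl⟩)

theorem uFun_algebraMap (a : MvPowerSeries (Fin n) k) :
    uFun k n R (algebraMap _ R a) = MvPowerSeries.map (algebraMap k (P k n R)) a := by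
  rw [uFun, map_eq_of_mem k n R fun m => Or.inr ⟨a, m, rfl⟩]
  ext m
  simp only [coeff_map]
  rfl

noncomputable def uHom : R →+* MvPowerSeries (Fin n) (P k n R) where
  toFun := uFun k n R
  map_one' := by
    have := uFun_algebraMap k n R 1
    rwa [map_one, map_one] at this
  map_mul' := uFun_mul k n R
  map_zero' := by
    have := uFun_algebraMap k n R 0
    rwa [map_zero, map_zero] at this
  map_add' := uFun_add k n R

theorem existsUnique_desc (Q : Type u) [CommRing Q] [Algebra k Q] (f : R →+* MvPowerSeries (Fin n) Q)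
    (hf : ∀ a, f (algebraMap _ R a) = MvPowerSeries.map (algebraMap k Q) a) :
    ∃! g : P k n R →ₐ[k] Q, (MvPowerSeries.map (σ := Fin n) (g : P k n R →+* Q)).comp (uHom k n R) = f := by
  let g₀ : MvPolynomial (Gen n R) k →ₐ[k] Q := MvPolynomial.aeval fun p => coeff p.2 (f p.1)
  have hg₀ : ∀ r, MvPowerSeries.map (g₀ : MvPolynomial (Gen n R) k →+* Q) (gen k n R r) = f r := fun r => by
    ext m
    rw [coeff_map, coeff_gen]
    exact MvPolynomial.aeval_X _ _
  have key : ∀ {x y : MvPowerSeries (Fin n) (MvPolynomial (Gen n R) k)},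
      MvPowerSeries.map (g₀ : MvPolynomial (Gen n R) k →+* Q) x = MvPowerSeries.map (g₀ : MvPolynomial (Gen n R) k →+* Q) y →
      ∀ m, g₀ (coeff m (x - y)) = 0 := fun h m => by
    rw [map_sub, map_sub, sub_eq_zero]
    exact congrArg (coeff m) h
  have hmap : ∀ a : MvPowerSeries (Fin n) k, MvPowerSeries.map (g₀ : MvPolynomial (Gen n R) k →+* Q)
      (MvPowerSeries.map (algebraMap k (MvPolynomial (Gen n R) k)) a) = MvPowerSeries.map (algebraMap k Q) a :=
    fun a => by
      ext m
      simp only [coeff_map]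
      exact g₀.commutes _
  have hker : ∀ p ∈ Ideal.span (rels k n R), g₀ p = 0 := by
    intro p hp
    induction hp using Submodule.span_induction with
    | mem x hx =>
      obtain (⟨r, r', m, rfl⟩ | ⟨r, r', m, rfl⟩) | ⟨a, m, rfl⟩ := hx
      · exact key (by rw [map_add, hg₀, hg₀, hg₀, map_add]) m
      · exact key (by rw [map_mul, hg₀, hg₀, hg₀, map_mul]) m
      · exact key (by rw [hg₀, hf, hmap]) m
    | zero => exact map_zero g₀
    | add x y _ _ hx hy => rw [map_add, hx, hy, add_zero]
    | smul a x _ hx => rw [smul_eq_mul, map_mul, hx, mul_zero]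
  let g : P k n R →ₐ[k] Q := Ideal.Quotient.liftₐ _ g₀ hker
  refine ⟨g, ?_, fun g' hg' => ?_⟩
  · ext r m
    exact congrArg (coeff m) (hg₀ r)
  · refine Ideal.Quotient.algHom_ext k (MvPolynomial.algHom_ext fun p => ?_)
    have h1 : g' (π k n R (MvPolynomial.X p)) = coeff p.2 (f p.1) :=
      congrArg (fun h => coeff p.2 (h p.1)) hg'
    exact h1.trans (MvPolynomial.aeval_X (fun p : Gen n R => coeff p.2 (f p.1)) p).symm

theorem countable_generators (s : Set R) (hs : s.Countable) (hgen : Algebra.adjoin (MvPowerSeries (Fin n) k) s = ⊤) :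
    ∃ t : Set (P k n R), t.Countable ∧ Algebra.adjoin k t = ⊤ := by
  let t : Set (P k n R) := (fun p : R × (Fin n →₀ ℕ) => π k n R (MvPolynomial.X p)) '' (s ×ˢ Set.univ)
  refine ⟨t, (hs.prod Set.countable_univ).image _, ?_⟩
  let A := Algebra.adjoin k t
  have hA : ∀ r : R, ∀ m, coeff m (uHom k n R r) ∈ A := by
    intro r
    have hr : r ∈ Algebra.adjoin (MvPowerSeries (Fin n) k) s := hgen ▸ Algebra.mem_top
    induction hr using Algebra.adjoin_induction with
    | mem x hx => exact fun m => Algebra.subset_adjoin ⟨(x, m), ⟨hx, trivial⟩, rfl⟩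
    | algebraMap a =>
      intro m
      show coeff m (uFun k n R _) ∈ A
      rw [uFun_algebraMap, coeff_map]
      exact A.algebraMap_mem _
    | add x y _ _ hx hy => exact fun m => by rw [map_add, map_add]; exact add_mem (hx m) (hy m)
    | mul x y _ _ hx hy =>
      intro m
      classical
      rw [map_mul, coeff_mul]
      exact sum_mem fun p _ => mul_mem (hx _) (hy _)
  rw [eq_top_iff]
  rintro z -
  obtain ⟨q, rfl⟩ := Ideal.Quotient.mk_surjective z
  induction q using MvPolynomial.induction_on with
  | C a => exact A.algebraMap_mem a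
  | add x y hx hy => rw [map_add]; exact add_mem hx hy
  | mul_X x p hx => rw [map_mul]; exact mul_mem hx (hA p.1 p.2)

end Groth.Agent.H9Arcs
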